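import Cfsg.Agent.H736.RootDisc
import Cfsg.Agent.H737.RootNormal

/-!
# Root involutions with disconnected commuting graph: reduction to a simple group

* `isConnectedSet_oddAdj` : if the commuting graph of `D` is disconnected then the graph of odd
  products is connected;
* `image_root`, `image_disconnected` : the image of `D` in `G / Z_*(G)`;
* `criterion_data` : in a simple group, the hypotheses of Aschbacher's criterion for the stabiliser
  of a component.
-/

set_option autoImplicit false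

namespace Cfsg.Agent.H736.RootDisc

open Cfsg.Agent.H737

variable {G : Type*} [Group G] {D : Set G}

theorem isConnectedSet_oddAdj (h : IsRootInvolutionSet D)
    (hdis : ¬ IsConnectedSet (CommAdj D) D) : IsConnectedSet (OddAdj D) D := by
  obtain ⟨a0, ha0, b0, hb0, h0⟩ : ∃ a ∈ D, ∃ b ∈ D, ¬ CC D a b := by
    unfold IsConnectedSet at hdis
    push Not at hdis
    exact hdis
  have hadj : ∀ a ∈ D, ∀ b ∈ D, ¬ CC D a b → Relation.ReflTransGen (OddAdj D) a b := by
    intro a ha b hb hab
    have ho := opp_of_not_cc h ha hb hab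
    exact Relation.ReflTransGen.single ⟨ha, hb, ho.1, ho.2⟩
  intro a ha b hb
  by_cases hab : CC D a b
  · obtain ⟨c, hc, hac⟩ : ∃ c ∈ D, ¬ CC D a c := by
      by_cases h1 : CC D a a0
      · exact ⟨b0, hb0, fun h2 => h0 (h1.symm'.trans' h2)⟩
      · exact ⟨a0, ha0, h1⟩
    exact (hadj a ha c hc hac).trans (hadj c hc b hb fun h1 => hac (hab.trans' h1.symm'))
  · exact hadj a ha b hb hab

/-- Only `1` fixes all components when the group is simple and the graph is disconnected. -/
theorem faithful [IsSimpleGroup G] (h : IsRootInvolutionSet D)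
    (hdis : ¬ IsConnectedSet (CommAdj D) D) (w : G) (hw : ∀ d ∈ D, CC D (w * d * w⁻¹) d) :
    w = 1 := by
  set N : Subgroup G := ⨅ d ∈ D, stab h d with hN
  have hmem : ∀ g : G, g ∈ N ↔ ∀ d ∈ D, CC D (g * d * g⁻¹) d := by
    intro g
    rw [hN, Subgroup.mem_iInf]
    refine forall_congr' fun d => ?_
    rw [Subgroup.mem_iInf]
    rfl
  have hNn : N.Normal := by
    constructor
    intro n hn g
    rw [hmem] at hn ⊢
    intro d hd
    have hd' : g⁻¹ * d * g ∈ D := by
      have := h.conj_mem d hd g⁻¹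
      rwa [inv_inv] at this
    have h1 := (hn _ hd').conj h g
    have e1 : g * (n * (g⁻¹ * d * g) * n⁻¹) * g⁻¹ = g * n * g⁻¹ * d * (g * n * g⁻¹)⁻¹ := by group
    have e2 : g * (g⁻¹ * d * g) * g⁻¹ = d := by group
    rwa [e1, e2] at h1
  rcases IsSimpleGroup.eq_bot_or_eq_top_of_normal N hNn with h1 | h1
  · have h2 : w ∈ N := (hmem w).2 hw
    rw [h1, Subgroup.mem_bot] at h2
    exact h2
  · exfalso
    apply hdis
    intro a ha b hb
    have h2 : a ∈ stab h b := by
      have h3 : a ∈ N := by rw [h1]; exact Subgroup.mem_top a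
      exact (hmem a).1 h3 b hb
    exact cc_of_mem_stab h ha hb h2

/-- **The hypotheses of Aschbacher's criterion** for the stabiliser of a component. -/
theorem criterion_data [Finite G] [IsSimpleGroup G] (h : IsRootInvolutionSet D)
    (hdis : ¬ IsConnectedSet (CommAdj D) D) :
    ∃ (M : Subgroup G) (z : G), M ≠ ⊤ ∧ orderOf z = 2 ∧ z ∈ M ∧
      (∃ S : Sylow 2 G, z ∈ S ∧ ∀ s ∈ S, Commute s z) ∧
      (∀ g : G, g * z * g⁻¹ ∈ M → g ∈ M) ∧
      ∀ g : G, Commute z (g * z * g⁻¹) → g * z * g⁻¹ ≠ z →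
        Subgroup.centralizer ({z * (g * z * g⁻¹)} : Set G) ≤ M := by
  obtain ⟨a0, ha0, b0, hb0, h0⟩ : ∃ a ∈ D, ∃ b ∈ D, ¬ CC D a b := by
    have hdis' := hdis
    unfold IsConnectedSet at hdis'
    push Not at hdis'
    exact hdis'
  have hmul : ∀ a ∈ D, ∀ b ∈ D, Commute a b → a ≠ b → a * b ∈ D := fun a ha b hb hab hne =>
    mul_mem_root h (faithful h hdis) ha hb hab hne
  obtain ⟨T, z, hz, hzT, hzc⟩ := exists_central h hmul ⟨a0, ha0⟩
  refine ⟨stab h z, z, ?_, h.orderOf_eq z hz, self_mem_stab h CC.rfl', ⟨T, hzT, hzc⟩, ?_, ?_⟩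
  · intro htop
    have h1 : ∀ a ∈ D, CC D a z := fun a ha =>
      cc_of_mem_stab h ha hz (by rw [htop]; exact Subgroup.mem_top a)
    exact h0 ((h1 a0 ha0).trans' (h1 b0 hb0).symm')
  · intro g hg
    exact cc_of_mem_stab h (h.conj_mem z hz g) hz hg
  · intro g hcomm hne x hx
    have hgz := h.conj_mem z hz g
    have h1 : z * (g * z * g⁻¹) ∈ D := hmul z hz _ hgz hcomm hne.symm
    have h2 : CC D (z * (g * z * g⁻¹)) z := by
      refine (CC.of_commute hz h1 ?_).symm'
      exact (Commute.refl z).mul_right hcomm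
    rw [Subgroup.mem_centralizer_singleton_iff] at hx
    exact mem_stab_of_commute h h2 hx

/-- The image of a set of root involutions modulo a normal subgroup without members of `D`. -/
theorem image_root (h : IsRootInvolutionSet D) {N : Subgroup G} [N.Normal]
    (hDN : ∀ d ∈ D, d ∉ N) : IsRootInvolutionSet (QuotientGroup.mk' N '' D) := by
  have hord : ∀ d ∈ QuotientGroup.mk' N '' D, orderOf d = 2 := by
    rintro _ ⟨d, hd, rfl⟩
    refine orderOf_eq_prime ?_ ?_
    · rw [← map_pow, pow_two, sq_of_mem h hd, map_one]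
    · intro h1
      exact hDN d hd ((QuotientGroup.eq_one_iff d).1 h1)
  refine ⟨hord, ?_, ?_, ?_⟩
  · rw [← MonoidHom.map_closure, h.generates]
    exact Subgroup.map_top_of_surjective _ (QuotientGroup.mk'_surjective N)
  · rintro _ ⟨d, hd, rfl⟩ g
    obtain ⟨g, rfl⟩ := QuotientGroup.mk'_surjective N g
    refine ⟨g * d * g⁻¹, h.conj_mem d hd g, ?_⟩
    rw [map_mul, map_mul, map_inv]
  · rintro _ ⟨a, ha, rfl⟩ _ ⟨b, hb, rfl⟩
    rcases h.pair a ha b hb with h1 | h1 | ⟨h1, h2⟩
    · left
      rw [← map_mul, h1, map_mul]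
    · right; left
      rw [← map_mul]
      exact Odd.of_dvd_nat h1 (orderOf_map_dvd _ _)
    · right; right
      rw [← map_mul, ← map_pow]
      refine ⟨?_, ⟨_, h2, rfl⟩⟩
      have h3 : orderOf (QuotientGroup.mk' N (a * b)) ∣ 2 ^ (1 + 1) := by
        rw [show (2 : ℕ) ^ (1 + 1) = 4 by norm_num, ← h1]
        exact orderOf_map_dvd _ _
      obtain ⟨k, hk, hk'⟩ := (Nat.dvd_prime_pow Nat.prime_two).1 h3
      have h4 : ¬ k ≤ 1 := by
        intro hk1
        apply hDN _ h2
        rw [← QuotientGroup.eq_one_iff]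
        show QuotientGroup.mk' N ((a * b) ^ 2) = 1
        rw [map_pow, ← orderOf_dvd_iff_pow_eq_one, hk']
        exact (Nat.pow_dvd_pow 2 hk1).trans (by norm_num)
      have h5 : k = 2 := by omega
      rw [hk', h5]
      norm_num

theorem image_disconnected (h : IsRootInvolutionSet D)
    (hdis : ¬ IsConnectedSet (CommAdj D) D) :
    ¬ IsConnectedSet (CommAdj (QuotientGroup.mk' (twoZCore G) '' D))
      (QuotientGroup.mk' (twoZCore G) '' D) := by
  have hcomm : ∀ a ∈ D, ∀ b ∈ D,
      Commute (QuotientGroup.mk' (twoZCore G) a) (QuotientGroup.mk' (twoZCore G) b) → CC D a b := by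
    intro a ha b hb hab
    by_contra hcon
    have ho := opp_of_not_cc h ha hb hcon
    apply mul_not_mem_twoZCore h hb ha ho
    have haa := sq_of_mem h ha
    have hbb := sq_of_mem h hb
    have h1 : (a * b) ^ 2 ∈ twoZCore G := by
      rw [← QuotientGroup.eq_one_iff]
      show QuotientGroup.mk' (twoZCore G) ((a * b) ^ 2) = 1
      rw [pow_two]
      have e : a * b * (a * b) = a * (b * a) * b := by group
      rw [e, map_mul, map_mul, map_mul, ← hab.eq, ← map_mul, ← map_mul, ← map_mul]
      have e2 : a * (a * b) * b = (a * a) * (b * b) := by group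
      rw [e2, haa, hbb, one_mul, map_one]
    obtain ⟨k, hk⟩ := exists_pow_sq ho.2
    rw [← hk]
    exact pow_mem h1 k
  intro hcon
  apply hdis
  have key : ∀ x y : G ⧸ twoZCore G,
      Relation.ReflTransGen (CommAdj (QuotientGroup.mk' (twoZCore G) '' D)) x y →
      ∀ a ∈ D, ∀ b ∈ D, QuotientGroup.mk' (twoZCore G) a = x →
        QuotientGroup.mk' (twoZCore G) b = y → CC D a b := by
    intro x y hxy
    induction hxy with
    | refl =>
      intro a ha b hb hax hbx
      apply hcomm a ha b hb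
      rw [hax, hbx]
    | tail _ h2 ih =>
      intro a ha b hb hax hby
      obtain ⟨⟨c, hc, hcy⟩, -, -, h3⟩ := h2
      refine (ih a ha c hc hax hcy).trans' (hcomm c hc b hb ?_)
      rw [hcy, hby]
      exact h3
  intro a ha b hb
  exact key _ _ (hcon _ ⟨a, ha, rfl⟩ _ ⟨b, hb, rfl⟩) a ha b hb rfl rfl

end Cfsg.Agent.H736.RootDisc
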