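import Cfsg.Agent.H737.RootInv
import Cfsg.Agent.Lib.NormalAbelian

/-!
# Root involutions with disconnected commuting graph

`CC D a b` : `a` and `b` lie in one component of the commuting graph of `D`.  For a set `D` of root
involutions whose commuting graph is disconnected and for which only `1` fixes all the components:

* `mul_mem_root` : the product of two different commuting members of `D` is a member (`D² ⊆ D`);
* `exists_central` : some member of `D` is central in a Sylow 2-subgroup;
* `stab` : the stabiliser of the component of `d`; it contains the centralizer of every member of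
  this component (`mem_stab_of_commute`), and `e ∈ D` lies in it iff `CC D e d` (`cc_of_mem_stab`).
-/

set_option autoImplicit false

namespace Cfsg.Agent.H736.RootDisc

open Cfsg.Agent.H737
open scoped commutatorElement

variable {G : Type*} [Group G] {D : Set G}

/-- `a` and `b` are joined by a path in the commuting graph of `D`. -/
def CC (D : Set G) (a b : G) : Prop := Relation.ReflTransGen (CommAdj D) a b

theorem CC.rfl' {a : G} : CC D a a := Relation.ReflTransGen.refl

theorem CC.trans' {a b c : G} (h1 : CC D a b) (h2 : CC D b c) : CC D a c :=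
  Relation.ReflTransGen.trans h1 h2

theorem CC.symm' {a b : G} (h1 : CC D a b) : CC D b a := by
  induction h1 with
  | refl => exact CC.rfl'
  | tail _ h3 ih =>
    exact CC.trans' (Relation.ReflTransGen.single ⟨h3.2.1, h3.1, h3.2.2.1.symm, h3.2.2.2.symm⟩) ih

theorem CC.of_commute {a b : G} (ha : a ∈ D) (hb : b ∈ D) (hab : Commute a b) : CC D a b := by
  by_cases h : a = b
  · subst h; exact CC.rfl'
  · exact Relation.ReflTransGen.single ⟨ha, hb, h, hab.eq⟩

theorem CC.conj (h : IsRootInvolutionSet D) {a b : G} (h1 : CC D a b) (g : G) :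
    CC D (g * a * g⁻¹) (g * b * g⁻¹) := by
  induction h1 with
  | refl => exact CC.rfl'
  | tail _ h3 ih =>
    refine ih.tail ⟨h.conj_mem _ h3.1 g, h.conj_mem _ h3.2.1 g, ?_, ?_⟩
    · intro he
      apply h3.2.2.1
      simpa using he
    · have := h3.2.2.2
      rename_i b c _
      calc g * b * g⁻¹ * (g * c * g⁻¹) = g * (b * c) * g⁻¹ := by group
        _ = g * (c * b) * g⁻¹ := by rw [this]
        _ = _ := by group

theorem CC.of_conj (h : IsRootInvolutionSet D) {a b : G} (g : G)
    (h1 : CC D (g * a * g⁻¹) (g * b * g⁻¹)) : CC D a b := by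
  have h2 := h1.conj h g⁻¹
  have e1 : g⁻¹ * (g * a * g⁻¹) * g⁻¹⁻¹ = a := by group
  have e2 : g⁻¹ * (g * b * g⁻¹) * g⁻¹⁻¹ = b := by group
  rwa [e1, e2] at h2

/-- Members in different components are opposite. -/
theorem opp_of_not_cc (h : IsRootInvolutionSet D) {a b : G} (ha : a ∈ D) (hb : b ∈ D)
    (hab : ¬ CC D a b) : Opp a b := by
  rcases opp_trichotomy h ha hb with h1 | h1 | ⟨h1, h2⟩
  · exact absurd (CC.of_commute ha hb h1) hab
  · exact h1
  · exfalso
    apply hab
    have haa := sq_of_mem h ha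
    have hbb := sq_of_mem h hb
    have h3 : Commute a (b * a * b) := commute_of_order_four haa hbb h1
    have h4 : Commute a (a * (b * a * b)) := (Commute.refl a).mul_right h3
    have h5 : Commute b (a * (b * a * b)) := by
      show b * (a * (b * a * b)) = a * (b * a * b) * b
      calc b * (a * (b * a * b)) = b * (b * a * b * a) := by rw [h3.eq]
        _ = (b * b) * a * b * a := by group
        _ = a * b * a * (b * b) := by rw [hbb]; group
        _ = a * (b * a * b) * b := by group
    exact (CC.of_commute ha h2 h4).trans' (CC.of_commute hb h2 h5).symm'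

/-- Opposite involutions are conjugate by a power of their product. -/
theorem exists_pow_conj {a b : G} (ha : a * a = 1) (hb : b * b = 1) (hab : Odd (orderOf (a * b))) :
    ∃ m : ℕ, (a * b) ^ m * a * ((a * b) ^ m)⁻¹ = b := by
  obtain ⟨m, hm⟩ := hab
  refine ⟨m, ?_⟩
  set ρ : G := a * b with hρ
  have hinv : a * ρ * a⁻¹ = ρ⁻¹ := by
    rw [hρ, mul_inv_rev, inv_of_sq hb, inv_of_sq ha, ← mul_assoc, ha, one_mul]
  have h1 : a * (ρ ^ m)⁻¹ * a⁻¹ = ρ ^ m := by
    rw [← inv_pow, ← conj_pow]
    rw [show a * ρ⁻¹ * a⁻¹ = (a * ρ * a⁻¹)⁻¹ by group, hinv, inv_inv]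
  have h2 : a * (ρ ^ m)⁻¹ = ρ ^ m * a := by
    calc a * (ρ ^ m)⁻¹ = (a * (ρ ^ m)⁻¹ * a⁻¹) * a := by group
      _ = ρ ^ m * a := by rw [h1]
  have h3 : ρ ^ (2 * m + 1) = 1 := by rw [← hm, pow_orderOf_eq_one]
  calc ρ ^ m * a * (ρ ^ m)⁻¹ = ρ ^ m * (a * (ρ ^ m)⁻¹) := by group
    _ = ρ ^ m * (ρ ^ m * a) := by rw [h2]
    _ = (ρ ^ (2 * m + 1)) * ρ⁻¹ * a := by rw [pow_succ, two_mul, pow_add]; group
    _ = b := by
      rw [h3, hρ, mul_inv_rev, inv_of_sq ha, inv_of_sq hb, one_mul, mul_assoc, ha, mul_one]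

/-- If `a ∈ D`, `b` is an involution and `a * b` has odd order, then `b ∈ D`. -/
theorem mem_of_odd (h : IsRootInvolutionSet D) {a b : G} (ha : a ∈ D) (hb : b * b = 1)
    (hab : Odd (orderOf (a * b))) : b ∈ D := by
  obtain ⟨m, hm⟩ := exists_pow_conj (sq_of_mem h ha) hb hab
  rw [← hm]
  exact h.conj_mem a ha _

/-- The stabiliser of the component of `d`. -/
def stab (h : IsRootInvolutionSet D) (d : G) : Subgroup G where
  carrier := {g | CC D (g * d * g⁻¹) d}
  one_mem' := by
    show CC D (1 * d * 1⁻¹) d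
    have : 1 * d * 1⁻¹ = d := by group
    rw [this]; exact CC.rfl'
  mul_mem' := by
    intro a b ha hb
    have h1 := CC.conj h (a := b * d * b⁻¹) (b := d) hb a
    have e : a * (b * d * b⁻¹) * a⁻¹ = a * b * d * (a * b)⁻¹ := by group
    rw [e] at h1
    exact h1.trans' ha
  inv_mem' := by
    intro a ha
    have h1 := CC.conj h (a := a * d * a⁻¹) (b := d) ha a⁻¹
    have e : a⁻¹ * (a * d * a⁻¹) * a⁻¹⁻¹ = d := by group
    rw [e] at h1
    exact h1.symm'

theorem mem_stab {h : IsRootInvolutionSet D} {d g : G} : g ∈ stab h d ↔ CC D (g * d * g⁻¹) d :=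
  Iff.rfl

theorem self_mem_stab (h : IsRootInvolutionSet D) {e d : G} (hed : CC D e d) :
    e ∈ stab h d := by
  rw [mem_stab]
  have h1 := hed.conj h e
  have e1 : e * e * e⁻¹ = e := by group
  rw [e1] at h1
  exact h1.symm'.trans' hed

theorem cc_of_mem_stab (h : IsRootInvolutionSet D) {e d : G} (he : e ∈ D) (hd : d ∈ D)
    (hed : e ∈ stab h d) : CC D e d := by
  by_contra hcon
  have ho := opp_of_not_cc h he hd hcon
  have hdd := sq_of_mem h hd
  have hee := sq_of_mem h he
  -- `e d ∈ H_d`
  have h1 : e * d ∈ stab h d := mul_mem hed (self_mem_stab h CC.rfl')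
  obtain ⟨m, hm⟩ := exists_pow_conj hdd hee (ho.symm' h he hd).2
  have h2 : d * e ∈ stab h d := mul_mem (self_mem_stab h CC.rfl') hed
  have h3 : (d * e) ^ m ∈ stab h d := pow_mem h2 m
  rw [mem_stab, hm] at h3
  exact hcon h3

/-- Elements centralizing a member of the component of `d` stabilise this component. -/
theorem mem_stab_of_commute (h : IsRootInvolutionSet D) {e d g : G} (hed : CC D e d)
    (hg : Commute g e) : g ∈ stab h d := by
  rw [mem_stab]
  have h1 := hed.conj h g
  have e1 : g * e * g⁻¹ = e := by rw [hg.eq]; group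
  rw [e1] at h1
  exact h1.symm'.trans' hed

/-- A member of `D` commuting with the product of two different commuting members lies in their
component. -/
theorem cc_of_commute_mul (h : IsRootInvolutionSet D) {a b x : G} (ha : a ∈ D) (hb : b ∈ D)
    (hab : Commute a b) (hne : a ≠ b) (hx : x ∈ D) (hxc : Commute x (a * b)) : CC D x a := by
  by_contra hcon
  have hcab : CC D a b := CC.of_commute ha hb hab
  have hcon2 : ¬ CC D x b := fun h1 => hcon (h1.trans' hcab.symm')
  have haa := sq_of_mem h ha
  have hbb := sq_of_mem h hb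
  have hxx := sq_of_mem h hx
  have ho1 := (opp_of_not_cc h hx ha hcon).2
  have ho2 := (opp_of_not_cc h hx hb hcon2).2
  have key : (x * a) ^ 2 = (x * b) ^ 2 := by
    have h1 : a * x * a = b * x * b := by
      have h2 : x * (a * b) = a * b * x := hxc.eq
      calc a * x * a = a * x * a * (b * b) := by rw [hbb, mul_one]
        _ = a * (x * (a * b)) * b := by group
        _ = a * (a * b * x) * b := by rw [h2]
        _ = (a * a) * b * x * b := by group
        _ = b * x * b := by rw [haa, one_mul]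
    rw [pow_two, pow_two]
    calc x * a * (x * a) = x * (a * x * a) := by group
      _ = x * (b * x * b) := by rw [h1]
      _ = _ := by group
  apply hne
  have h3 : x * a = x * b := by
    obtain ⟨k, hk⟩ := ho1.mul ho2
    have e1 : ((x * a) ^ 2) ^ (k + 1) = x * a := by
      rw [← pow_mul, show 2 * (k + 1) = (orderOf (x * a) * orderOf (x * b)) + 1 by omega,
        pow_succ, pow_mul, pow_orderOf_eq_one, one_pow, one_mul]
    have e2 : ((x * b) ^ 2) ^ (k + 1) = x * b := by
      rw [← pow_mul, show 2 * (k + 1) = (orderOf (x * b) * orderOf (x * a)) + 1 by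
        rw [mul_comm (orderOf (x * b))]; omega,
        pow_succ, pow_mul, pow_orderOf_eq_one, one_pow, one_mul]
    rw [← e1, ← e2, key]
  exact mul_left_cancel h3

/-- The dihedral trick: an involution `w ∉ D` moving the component of `d ∈ D`. -/
theorem trick (h : IsRootInvolutionSet D) {w d : G} (hw : w * w = 1) (hd : d ∈ D) (hwD : w ∉ D)
    (hmove : ¬ CC D (w * d * w⁻¹) d) :
    ∃ z, z ≠ 1 ∧ z * z = 1 ∧ Commute z w ∧ Commute z d ∧ w * z ∈ D := by
  have hdd := sq_of_mem h hd
  have hwinv := inv_of_sq hw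
  have hdinv := inv_of_sq hdd
  rw [hwinv] at hmove
  have hwdw : w * d * w ∈ D := by
    have := h.conj_mem d hd w
    rwa [hwinv] at this
  have ho := (opp_of_not_cc h hwdw hd hmove).2
  have e1 : w * d * w * d = (w * d) ^ 2 := by rw [pow_two]; group
  rw [e1] at ho
  set m := orderOf ((w * d) ^ 2) with hm
  obtain ⟨k, hk⟩ := ho
  have hzz : (w * d) ^ m * (w * d) ^ m = 1 := by
    rw [← pow_add, ← two_mul, pow_mul, hm, pow_orderOf_eq_one]
  have hcw : Commute ((w * d) ^ m) w := by
    have h1 : w * (w * d) ^ m * w⁻¹ = (w * d) ^ m := by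
      rw [← conj_pow]
      have e2 : w * (w * d) * w⁻¹ = (w * d)⁻¹ := by
        rw [mul_inv_rev, hwinv, hdinv]
        calc w * (w * d) * w = (w * w) * d * w := by group
          _ = d * w := by rw [hw, one_mul]
      rw [e2, inv_pow]
      exact inv_of_sq hzz
    show (w * d) ^ m * w = w * (w * d) ^ m
    calc (w * d) ^ m * w = (w * (w * d) ^ m * w⁻¹) * w := by rw [h1]
      _ = _ := by group
  have hcd : Commute ((w * d) ^ m) d := by
    have h1 : d * (w * d) ^ m * d⁻¹ = (w * d) ^ m := by
      rw [← conj_pow]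
      have e2 : d * (w * d) * d⁻¹ = (w * d)⁻¹ := by
        rw [mul_inv_rev, hwinv, hdinv]
        calc d * (w * d) * d = d * w * (d * d) := by group
          _ = d * w := by rw [hdd, mul_one]
      rw [e2, inv_pow]
      exact inv_of_sq hzz
    show (w * d) ^ m * d = d * (w * d) ^ m
    calc (w * d) ^ m * d = (d * (w * d) ^ m * d⁻¹) * d := by rw [h1]
      _ = _ := by group
  refine ⟨(w * d) ^ m, ?_, hzz, hcw, hcd, ?_⟩
  · intro h1
    apply hwD
    refine mem_of_odd h hd hw ?_
    have h2 : orderOf (w * d) ∣ m := orderOf_dvd_of_pow_eq_one h1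
    have h3 : Odd (orderOf (w * d)) := Odd.of_dvd_nat ⟨k, hk⟩ h2
    have e2 : d * w = (w * d)⁻¹ := by rw [mul_inv_rev, hwinv, hdinv]
    rw [e2, orderOf_inv]
    exact h3
  · have hsq : w * (w * d) ^ m * (w * (w * d) ^ m) = 1 := by
      calc w * (w * d) ^ m * (w * (w * d) ^ m) = w * ((w * d) ^ m * w) * (w * d) ^ m := by group
        _ = w * (w * (w * d) ^ m) * (w * d) ^ m := by rw [hcw.eq]
        _ = (w * w) * ((w * d) ^ m * (w * d) ^ m) := by group
        _ = 1 := by rw [hw, hzz, one_mul]
    refine mem_of_odd h hd hsq ?_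
    have e3 : d * (w * (w * d) ^ m) = ((w * d) ^ 2) ^ k := by
      have e2 : d * w = (w * d)⁻¹ := by rw [mul_inv_rev, hwinv, hdinv]
      rw [← mul_assoc, e2, ← pow_mul, hk, pow_succ', ← mul_assoc, inv_mul_cancel, one_mul]
    rw [e3]
    have h4 : orderOf (((w * d) ^ 2) ^ k) ∣ m := orderOf_pow_dvd k
    exact Odd.of_dvd_nat ⟨k, hk⟩ h4

/-- **`D² ⊆ D`** when the commuting graph of `D` is disconnected and only `1` fixes all its
components. -/
theorem mul_mem_root (h : IsRootInvolutionSet D)
    (hf : ∀ w : G, (∀ d ∈ D, CC D (w * d * w⁻¹) d) → w = 1)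
    {a b : G} (ha : a ∈ D) (hb : b ∈ D) (hab : Commute a b) (hne : a ≠ b) : a * b ∈ D := by
  by_contra hwD
  have haa := sq_of_mem h ha
  have hbb := sq_of_mem h hb
  have hw : a * b * (a * b) = 1 := by
    calc a * b * (a * b) = a * (b * a) * b := by group
      _ = a * (a * b) * b := by rw [hab.eq]
      _ = (a * a) * (b * b) := by group
      _ = 1 := by rw [haa, hbb, one_mul]
  have hw1 : a * b ≠ 1 := by
    intro h1
    apply hne
    calc a = a * (b * b) := by rw [hbb, mul_one]
      _ = (a * b) * b := by group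
      _ = b := by rw [h1, one_mul]
  set w : G := a * b with hwdef
  -- `w` moves some component
  obtain ⟨d, hd, hmove⟩ : ∃ d ∈ D, ¬ CC D (w * d * w⁻¹) d := by
    by_contra hcon
    push Not at hcon
    exact hw1 (hf w hcon)
  obtain ⟨z, hz1, hzz, hzw, hzd, hd'⟩ := trick h hw hd hwD hmove
  set d' : G := w * z with hd'def
  have hzd' : Commute z d' := hzw.mul_right (Commute.refl z)
  have hwd' : Commute w d' := (Commute.refl w).mul_right hzw.symm
  have hd'z : d' * z = w := by rw [hd'def, mul_assoc, hzz, mul_one]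
  -- `d'` lies in another component than `d`
  have hndd' : ¬ CC D d d' := by
    intro h1
    apply hmove
    have h2 : w ∈ stab h d := mem_stab_of_commute h h1.symm' hwd'
    exact h2
  have hzD : z ∉ D := by
    intro h1
    exact hndd' ((CC.of_commute h1 hd hzd).symm'.trans' (CC.of_commute h1 hd' hzd'))
  -- members commuting with `z` are conjugate to `d'` in the centralizer of `z`
  have hconj : ∀ x ∈ D, Commute z x → ∃ g : G, Commute z g ∧ g * d' * g⁻¹ = x := by
    have hstep : ∀ x ∈ D, ∀ y ∈ D, Commute z x → Commute z y → ¬ CC D x y →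
        ∃ g : G, Commute z g ∧ g * x * g⁻¹ = y := by
      intro x hx y hy hzx hzy hxy
      obtain ⟨m, hm⟩ := exists_pow_conj (sq_of_mem h hx) (sq_of_mem h hy)
        (opp_of_not_cc h hx hy hxy).2
      exact ⟨(x * y) ^ m, (hzx.mul_right hzy).pow_right m, hm⟩
    intro x hx hzx
    by_cases hc : CC D d' x
    · have h1 : ¬ CC D d x := fun h1 => hndd' (h1.trans' hc.symm')
      obtain ⟨g1, hg1, hg1'⟩ := hstep d hd x hx hzd hzx h1
      obtain ⟨g2, hg2, hg2'⟩ := hstep d' hd' d hd hzd' hzd (fun h1 => hndd' h1.symm')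
      refine ⟨g1 * g2, hg1.mul_right hg2, ?_⟩
      rw [← hg1', ← hg2']; group
    · exact hstep d' hd' x hx hzd' hzx hc
  -- `z` moves some component
  obtain ⟨x, hx, hmovex⟩ : ∃ x ∈ D, ¬ CC D (z * x * z⁻¹) x := by
    by_contra hcon
    push Not at hcon
    exact hz1 (hf z hcon)
  obtain ⟨y, hy1, hyy, hyz, hyx, hx'⟩ := trick h hzz hx hzD hmovex
  -- `x' = z y`
  set x' : G := z * y with hx'def
  have hzx' : Commute z x' := (Commute.refl z).mul_right hyz.symm
  obtain ⟨g, hg, hgx'⟩ := hconj x' hx' hzx'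
  have hyeq : y = (g * a * g⁻¹) * (g * b * g⁻¹) := by
    have h1 : x' * z = y := by
      rw [hx'def, ← hyz.eq, mul_assoc, hzz, mul_one]
    rw [← h1, ← hgx']
    have h2 : g⁻¹ * z = z * g⁻¹ := hg.inv_right.eq.symm
    calc g * d' * g⁻¹ * z = g * d' * (g⁻¹ * z) := by group
      _ = g * d' * (z * g⁻¹) := by rw [h2]
      _ = g * (d' * z) * g⁻¹ := by group
      _ = g * (a * b) * g⁻¹ := by rw [hd'z]
      _ = _ := by group
  have hga := h.conj_mem a ha g
  have hgb := h.conj_mem b hb g
  have hgab : Commute (g * a * g⁻¹) (g * b * g⁻¹) := by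
    show g * a * g⁻¹ * (g * b * g⁻¹) = g * b * g⁻¹ * (g * a * g⁻¹)
    calc g * a * g⁻¹ * (g * b * g⁻¹) = g * (a * b) * g⁻¹ := by group
      _ = g * (b * a) * g⁻¹ := by rw [hab.eq]
      _ = _ := by group
  have hgne : g * a * g⁻¹ ≠ g * b * g⁻¹ := by
    intro he
    apply hne
    simpa using he
  have hyx' : Commute y x' := hyz.mul_right (Commute.refl y)
  have hcx : CC D x (g * a * g⁻¹) := by
    refine cc_of_commute_mul h hga hgb hgab hgne hx ?_
    rw [← hyeq]; exact hyx.symm
  have hcx' : CC D x' (g * a * g⁻¹) := by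
    refine cc_of_commute_mul h hga hgb hgab hgne hx' ?_
    rw [← hyeq]; exact hyx'.symm
  apply hmovex
  have h2 : z ∈ stab h x := mem_stab_of_commute h (hcx'.trans' hcx.symm') hzx'
  exact h2

/-- **Some member of `D` is central in a Sylow 2-subgroup.** -/
theorem exists_central [Finite G] (h : IsRootInvolutionSet D)
    (hmul : ∀ a ∈ D, ∀ b ∈ D, Commute a b → a ≠ b → a * b ∈ D) (hne : D.Nonempty) :
    ∃ T : Sylow 2 G, ∃ z ∈ D, z ∈ T ∧ ∀ t ∈ T, Commute t z := by
  classical
  obtain ⟨d, hd⟩ := hne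
  have hdP : IsPGroup 2 (Subgroup.zpowers d) := by
    apply IsPGroup.of_card (n := 1)
    rw [Nat.card_zpowers, h.orderOf_eq d hd, pow_one]
  obtain ⟨T, hT⟩ := hdP.exists_le_sylow
  have hdT : d ∈ T := hT (Subgroup.mem_zpowers d)
  have : Group.IsNilpotent ↥(T : Subgroup G) := T.isPGroup'.isNilpotent
  -- a member of `D ∩ T` deepest in the lower central series
  have hbot : ∃ n, (T : Subgroup G).lowerCentralSeries n = ⊥ :=
    (Subgroup.isNilpotent_iff_lowerCentralSeries (T : Subgroup G)).1 inferInstance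
  have hex : ∃ n, ∀ a ∈ D, a ∉ (T : Subgroup G).lowerCentralSeries n := by
    obtain ⟨n, hn⟩ := hbot
    refine ⟨n, fun a ha hmem => ?_⟩
    rw [hn, Subgroup.mem_bot] at hmem
    exact ne_one_of_mem h ha hmem
  obtain ⟨n, hn⟩ : ∃ n, Nat.find hex = n + 1 := by
    rcases Nat.eq_zero_or_pos (Nat.find hex) with h0 | h0
    · exfalso
      have := Nat.find_spec hex
      rw [h0] at this
      exact this d hd hdT
    · exact ⟨Nat.find hex - 1, by omega⟩
  have hmin := Nat.find_min hex (m := n) (by omega)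
  have hspec := Nat.find_spec hex
  rw [hn] at hspec
  push Not at hmin
  obtain ⟨a, haD, haT⟩ := hmin
  have haT' : a ∈ (T : Subgroup G) := by
    have := Subgroup.lowerCentralSeries_antitone (T : Subgroup G) (Nat.zero_le n) haT
    exact this
  have hac : ∀ t ∈ D, t ∈ T → Commute a t := by
    intro t ht htT
    by_contra hcon
    rcases opp_trichotomy h haD ht with h1 | h1 | ⟨h1, h2⟩
    · exact hcon h1
    · -- odd order in a 2-group
      have h3 : a * t ∈ (T : Subgroup G) := mul_mem haT' htT
      obtain ⟨k, hk⟩ := T.isPGroup' ⟨a * t, h3⟩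
      have hk' : (a * t) ^ 2 ^ k = 1 := by
        have := congrArg Subtype.val hk
        simpa using this
      have h4 : orderOf (a * t) ∣ 2 ^ k := orderOf_dvd_of_pow_eq_one hk'
      have h6 : Nat.Coprime (orderOf (a * t)) (2 ^ k) :=
        Nat.Coprime.pow_right _ h1.2.coprime_two_right
      have h7 : a * t = 1 := orderOf_eq_one_iff.1 (Nat.Coprime.eq_one_of_dvd h6 h4)
      apply h1.1
      calc a = a * (t * t) := by rw [sq_of_mem h ht, mul_one]
        _ = (a * t) * t := by group
        _ = t := by rw [h7, one_mul]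
    · refine hspec _ h2 ?_
      rw [Subgroup.lowerCentralSeries_succ]
      have h3 : a * (t * a * t) = ⁅a, t⁆ := by
        rw [commutatorElement_def, inv_of_mem h haD, inv_of_mem h ht]; group
      rw [h3]
      exact Subgroup.commutator_mem_commutator haT htT
  -- the members of `D ∩ T` centralizing `D ∩ T`, with `1`, form a normal subgroup of `T`
  let V : Subgroup ↥(T : Subgroup G) :=
    { carrier := {x | (x : G) = 1 ∨ ((x : G) ∈ D ∧ ∀ t ∈ D, t ∈ T → Commute (x : G) t)}
      one_mem' := Or.inl rfl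
      mul_mem' := by
        rintro x y (hx | ⟨hx, hx'⟩) (hy | ⟨hy, hy'⟩)
        · left
          rw [Subgroup.coe_mul, hx, hy, one_mul]
        · right
          rw [Subgroup.coe_mul, hx, one_mul]
          exact ⟨hy, hy'⟩
        · right
          rw [Subgroup.coe_mul, hy, mul_one]
          exact ⟨hx, hx'⟩
        · by_cases hxy : (x : G) = (y : G)
          · left
            rw [Subgroup.coe_mul, ← hxy]
            exact sq_of_mem h hx
          · right
            rw [Subgroup.coe_mul]
            exact ⟨hmul _ hx _ hy (hx' _ hy y.2) hxy,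
              fun t ht htT => (hx' t ht htT).mul_left (hy' t ht htT)⟩
      inv_mem' := by
        rintro x (hx | ⟨hx, hx'⟩)
        · left
          rw [Subgroup.coe_inv, hx, inv_one]
        · right
          rw [Subgroup.coe_inv, inv_of_mem h hx]
          exact ⟨hx, hx'⟩ }
  have hVn : V.Normal := by
    constructor
    rintro x (hx | ⟨hx, hx'⟩) s
    · left
      rw [Subgroup.coe_mul, Subgroup.coe_mul, Subgroup.coe_inv, hx, mul_one, mul_inv_cancel]
    · right
      rw [Subgroup.coe_mul, Subgroup.coe_mul, Subgroup.coe_inv]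
      refine ⟨h.conj_mem _ hx _, fun t ht htT => ?_⟩
      have h1 : (s : G)⁻¹ * t * (s : G) ∈ D := by
        have := h.conj_mem t ht (s : G)⁻¹
        rwa [inv_inv] at this
      have h2 : (s : G)⁻¹ * t * (s : G) ∈ (T : Subgroup G) :=
        mul_mem (mul_mem (inv_mem s.2) htT) s.2
      have h3 := hx' _ h1 h2
      show (s : G) * x * (s : G)⁻¹ * t = t * ((s : G) * x * (s : G)⁻¹)
      calc (s : G) * x * (s : G)⁻¹ * t = s * (x * ((s : G)⁻¹ * t * s)) * (s : G)⁻¹ := by group
        _ = s * (((s : G)⁻¹ * t * s) * x) * (s : G)⁻¹ := by rw [h3.eq]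
        _ = _ := by group
  have hVne : V ≠ ⊥ := by
    intro hbot'
    have h1 : (⟨a, haT'⟩ : ↥(T : Subgroup G)) ∈ V := Or.inr ⟨haD, hac⟩
    rw [hbot', Subgroup.mem_bot] at h1
    exact ne_one_of_mem h haD (congrArg Subtype.val h1)
  have hVc := Cfsg.Agent.Lib.NormalAbelian.normal_inf_center_ne_bot V hVne
  obtain ⟨z, hz, hz1⟩ : ∃ z ∈ V ⊓ Subgroup.center ↥(T : Subgroup G), z ≠ 1 := by
    by_contra hcon
    push Not at hcon
    apply hVc
    rw [Subgroup.eq_bot_iff_forall]
    exact hcon
  refine ⟨T, (z : G), ?_, z.2, ?_⟩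
  · rcases hz.1 with h1 | h1
    · exact absurd (Subtype.ext h1) hz1
    · exact h1.1
  · intro t ht
    have h1 := Subgroup.mem_center_iff.1 hz.2 ⟨t, ht⟩
    exact congrArg Subtype.val h1

end Cfsg.Agent.H736.RootDisc
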